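import Groth.Agent.H52.FBase.PrimaryGeom
import Groth.Agent.Lib.ActSep.MaxPt
import Mathlib.AlgebraicGeometry.Morphisms.Integral
import Mathlib.RingTheory.Ideal.GoingUp

/-!
Fibres of a field extension of the base: an integral part and a geometrically irreducible part.
-/

set_option autoImplicit false
set_option backward.isDefEq.respectTransparency false
set_option backward.isDefEq.respectTransparency.types false

universe u

open CategoryTheory CategoryTheory.Limits AlgebraicGeometry Topology

namespace Groth.Agent.Lib.MaxFibre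

open Groth.Agent.Lib.ActSep.MaxPt

/-- Integral morphisms have no specialisations inside their fibres. -/
theorem eq_of_specializes {X Y : Scheme.{u}} (f : X ⟶ Y) [IsIntegralHom f] {a b : X} (h : a ⤳ b)
    (hab : f a = f b) : a = b := by
  obtain ⟨V, hV, hbV, -⟩ := exists_isAffineOpen_mem_and_subset (U := ⊤) (x := f b) trivial
  have hU : IsAffineOpen (f ⁻¹ᵁ V) := hV.preimage f
  have haU : a ∈ f ⁻¹ᵁ V := show f a ∈ V by rw [hab]; exact hbV
  algebraize [(f.app V).hom]
  have : Algebra.IsIntegral Γ(Y, V) Γ(X, f ⁻¹ᵁ V) := ⟨f.isIntegral_app V hV⟩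
  set P := hU.primeIdealOf ⟨a, haU⟩
  set Q := hU.primeIdealOf ⟨b, hbV⟩
  have hle : P.asIdeal ≤ Q.asIdeal := by
    refine (PrimeSpectrum.le_iff_specializes _ _).2 ?_
    refine hU.fromSpec.isOpenEmbedding.isInducing.specializes_iff.1 ?_
    rw [hU.fromSpec_primeIdealOf, hU.fromSpec_primeIdealOf]
    exact h
  by_contra hne
  have hlt : P.asIdeal < Q.asIdeal := lt_of_le_of_ne hle fun e => hne <| by
    have := congrArg hU.fromSpec (PrimeSpectrum.ext e : P = Q)
    rwa [hU.fromSpec_primeIdealOf, hU.fromSpec_primeIdealOf] at this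
  refine (Ideal.IsIntegral.comap_lt_comap (R := Γ(Y, V)) hlt).ne ?_
  have h1 := IsAffineOpen.comap_primeIdealOf_appLE (f := f) V hV (f ⁻¹ᵁ V) hU le_rfl haU
  have h2 := IsAffineOpen.comap_primeIdealOf_appLE (f := f) V hV (f ⁻¹ᵁ V) hU le_rfl (show b ∈ f ⁻¹ᵁ V from hbV)
  show P.asIdeal.comap (f.app V).hom = Q.asIdeal.comap (f.app V).hom
  rw [Scheme.Hom.app_eq_appLE]
  refine (congrArg PrimeSpectrum.asIdeal h1).trans (Eq.trans ?_ (congrArg PrimeSpectrum.asIdeal h2).symm)
  congr 2
  exact Subtype.ext hab

variable (k K : Type u) [Field k] [Field K] [Algebra k K]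

/-- A field extension without separable algebraic subextension is geometrically irreducible. -/
theorem geometricallyIrreducible_of_primary (h : separableClosure k K = ⊥) :
    GeometricallyIrreducible (Spec.map (CommRingCat.ofHom (algebraMap k K))) := by
  refine ⟨geometrically_iff_of_isClosedUnderIsomorphisms.mpr fun F _ x => ?_⟩
  obtain ⟨φ, rfl⟩ := Spec.map_surjective x
  letI : Algebra k F := φ.hom.toAlgebra
  exact Groth.Agent.H52.FBase.PrimaryGeom.irreducibleSpace_bc_spec K h F

theorem isIntegralHom_of_algebraic [Algebra.IsIntegral k K] :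
    IsIntegralHom (Spec.map (CommRingCat.ofHom (algebraMap k K))) := by
  rw [IsIntegralHom.SpecMap_iff]
  exact algebraMap_isIntegral_iff.2 inferInstance

/-- The projection of a field extension factors as a geometrically irreducible universally open map followed
by an integral map. -/
theorem exists_factor {X : Scheme.{u}} (f : X ⟶ Spec (CommRingCat.of k)) :
    ∃ (Xl : Scheme.{u}) (σ : pullback f (Spec.map (CommRingCat.ofHom (algebraMap k K))) ⟶ Xl) (ρ : Xl ⟶ X),
      GeometricallyIrreducible σ ∧ UniversallyOpen σ ∧ IsIntegralHom ρ ∧ σ ≫ ρ = pullback.fst _ _ := by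
  let l := separableClosure k K
  let al := Spec.map (CommRingCat.ofHom (algebraMap k l))
  let bl := Spec.map (CommRingCat.ofHom (algebraMap l K))
  have hab : bl ≫ al = Spec.map (CommRingCat.ofHom (algebraMap k K)) := by
    rw [← Spec.map_comp, ← CommRingCat.ofHom_comp, ← IsScalarTower.algebraMap_eq]
  let σ : pullback f (Spec.map (CommRingCat.ofHom (algebraMap k K))) ⟶ pullback f al :=
    pullback.lift (pullback.fst _ _) (pullback.snd _ _ ≫ bl) (by rw [Category.assoc, hab, pullback.condition])
  have hσ : IsPullback σ (pullback.snd _ _) (pullback.snd f al) bl := by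
    refine IsPullback.of_right ?_ (pullback.lift_snd _ _ _) (IsPullback.of_hasPullback f al)
    rw [pullback.lift_fst, hab]
    exact IsPullback.of_hasPullback _ _
  have hgi : GeometricallyIrreducible bl :=
    geometricallyIrreducible_of_primary l K (separableClosure.separableClosure_eq_bot k K)
  have : Algebra.IsIntegral k l := Algebra.IsAlgebraic.isIntegral
  have hint : IsIntegralHom al := isIntegralHom_of_algebraic k l
  exact ⟨_, σ, pullback.fst f al, MorphismProperty.of_isPullback hσ.flip hgi,
    MorphismProperty.of_isPullback hσ.flip (inferInstance : UniversallyOpen bl),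
    MorphismProperty.of_isPullback (IsPullback.of_hasPullback f al).flip hint, pullback.lift_fst _ _ _⟩

end Groth.Agent.Lib.MaxFibre
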